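import Mathlib.RingTheory.Valuation.LocalSubring
import Mathlib.RingTheory.TensorProduct.Free
import Mathlib.RingTheory.Flat.Basic
import Mathlib.RingTheory.Jacobson.Ring
import Mathlib.FieldTheory.IsAlgClosed.Basic
import Mathlib.LinearAlgebra.TensorProduct.Basis

/-!
# Units on a product of two integral affine varieties over an algebraically closed field

A unit of `A ⊗ C` is a product of a unit of `A` and a unit of `C`: we prove the equivalent cross
relation of its values at rational points, using valuations of the fraction field of `C`.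
-/

universe u

open scoped TensorProduct

namespace Groth.L28.Units

variable {K : Type u} [Field K] {A : Type u} [CommRing A] [Algebra K A]

/-- the rational points separate the elements -/
def Separated (K A : Type u) [Field K] [CommRing A] [Algebra K A] : Prop :=
  ∀ a : A, a ≠ 0 → ∃ φ : A →ₐ[K] K, φ a ≠ 0

lemma separated_of_finiteType [IsAlgClosed K] [IsDomain A] [Algebra.FiniteType K A] :
    Separated K A := fun a ha => by
  haveI : IsJacobsonRing A := isJacobsonRing_of_finiteType (A := K)
  have h : a ∉ (⊥ : Ideal A).jacobson := by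
    rw [(inferInstance : IsJacobsonRing A).out
      (show (⊥ : Ideal A).IsRadical from Ideal.bot_prime.isRadical)]
    simpa using ha
  simp only [Ideal.jacobson, Ideal.mem_sInf, not_forall] at h
  obtain ⟨m, ⟨-, hm⟩, hma⟩ := h
  haveI := hm
  letI := Ideal.Quotient.field m
  haveI : Algebra.FiniteType K (A ⧸ m) :=
    Algebra.FiniteType.of_surjective (Ideal.Quotient.mkₐ K m) Ideal.Quotient.mk_surjective
  haveI : Module.Finite K (A ⧸ m) := finite_of_finite_type_of_isJacobsonRing K (A ⧸ m)
  let e : K ≃ₐ[K] A ⧸ m := AlgEquiv.ofBijective (Algebra.ofId K (A ⧸ m))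
    (IsAlgClosed.algebraMap_bijective_of_isIntegral (k := K) (K := A ⧸ m))
  refine ⟨e.symm.toAlgHom.comp (Ideal.Quotient.mkₐ K m), fun h0 => hma ?_⟩
  rw [← Ideal.Quotient.eq_zero_iff_mem]
  have h1 := congrArg e h0
  simpa using h1

/-- evaluation of the second factor at a rational point -/
noncomputable def ev (B : Type u) [CommRing B] [Algebra K B] (φ : A →ₐ[K] K) : B ⊗[K] A →ₐ[K] B :=
  Algebra.TensorProduct.lift (AlgHom.id K B) ((Algebra.ofId K B).comp φ) fun _ _ => Commute.all _ _

@[simp] lemma ev_tmul (B : Type u) [CommRing B] [Algebra K B] (φ : A →ₐ[K] K) (b : B) (a : A) :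
    ev B φ (b ⊗ₜ[K] a) = b * algebraMap K B (φ a) :=
  Algebra.TensorProduct.lift_tmul _ _ _ _ _

lemma exists_coeff_ne_zero (κ : Type u) [Field κ] [Algebra K κ] (p : κ ⊗[K] A) (hp : p ≠ 0) :
    ∃ a : A, a ≠ 0 ∧ ∀ φ : A →ₐ[K] K, φ a ≠ 0 → ev κ φ p ≠ 0 := by
  classical
  let c := Module.Basis.ofVectorSpace K κ
  let e := TensorProduct.equivFinsuppOfBasisLeft (N := A) c
  have he : e p ≠ 0 := fun h => hp (e.map_eq_zero_iff.1 h)
  obtain ⟨i, hi⟩ := Finsupp.ne_iff.1 he
  refine ⟨e p i, hi, fun φ hφ h0 => hφ ?_⟩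
  have key : ∀ q, c.coord i (ev κ φ q) = φ (e q i) := fun q => by
    induction q using TensorProduct.induction_on with
    | zero => simp
    | tmul x a =>
      rw [ev_tmul, TensorProduct.equivFinsuppOfBasisLeft_apply_tmul_apply, mul_comm, ← Algebra.smul_def]
      simp [mul_comm]
    | add x y hx hy => simp only [map_add, Finsupp.add_apply, hx, hy]
  rw [← key p, h0, map_zero]

lemma tensor_mul_ne_zero [IsDomain A] (hsep : Separated K A) (κ : Type u) [Field κ] [Algebra K κ]
    {p q : κ ⊗[K] A} (hp : p ≠ 0) (hq : q ≠ 0) : p * q ≠ 0 := by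
  obtain ⟨a, ha, ha'⟩ := exists_coeff_ne_zero κ p hp
  obtain ⟨b, hb, hb'⟩ := exists_coeff_ne_zero κ q hq
  obtain ⟨φ, hφ⟩ := hsep _ (mul_ne_zero ha hb)
  rw [map_mul] at hφ
  intro h
  have := congrArg (ev κ φ) h
  rw [map_mul, map_zero] at this
  exact mul_ne_zero (ha' φ (left_ne_zero_of_mul hφ)) (hb' φ (right_ne_zero_of_mul hφ)) this

lemma ev_comp {B B' : Type u} [CommRing B] [Algebra K B] [CommRing B'] [Algebra K B'] (f : B →ₐ[K] B')
    (φ : A →ₐ[K] K) (q : B ⊗[K] A) :
    ev B' φ (Algebra.TensorProduct.map f (AlgHom.id K A) q) = f (ev B φ q) := by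
  induction q using TensorProduct.induction_on with
  | zero => simp
  | tmul x a => simp
  | add x y hx hy => simp only [map_add, hx, hy]

lemma mem_range_of_forall_valuationSubring [IsAlgClosed K] {L : Type u} [Field L] [Algebra K L] (r : L)
    (h : ∀ V : ValuationSubring L, (∀ c : K, algebraMap K L c ∈ V) → r ∈ V) :
    r ∈ Set.range (algebraMap K L) := by
  have hmem : r ∈ (⨅ V : {V : ValuationSubring L // Set.range (algebraMap K L) ⊆ V.toSubring},
      V.1.toSubring) := Subring.mem_iInf.2 fun V => h V.1 fun c => V.2 ⟨c, rfl⟩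
  rw [iInf_valuationSubring_superset] at hmem
  set S := Subring.closure (Set.range (algebraMap K L))
  have hS : S = (algebraMap K L).range := le_antisymm
    (Subring.closure_le.2 fun x hx => hx) fun x hx => Subring.subset_closure hx
  have hint : IsIntegral S r := hmem
  obtain ⟨P, hP, hPr⟩ := hint
  have hlift : P.map S.subtype ∈ Polynomial.lifts (algebraMap K L) := by
    rw [Polynomial.lifts_iff_coeff_lifts]
    intro n
    rw [Polynomial.coeff_map]
    exact hS.le (P.coeff n).2
  obtain ⟨Q, hQ, -, hQm⟩ := Polynomial.lifts_and_natDegree_eq_and_monic hlift (hP.map _)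
  have hr : IsIntegral K r := ⟨Q, hQm, by
    rw [← Polynomial.eval_map, hQ, Polynomial.eval_map]
    exact hPr⟩
  exact minpoly.mem_range_of_degree_eq_one K r
    (IsAlgClosed.degree_eq_one_of_irreducible K (minpoly.irreducible hr))

section key

variable [IsDomain A] {L : Type u} [Field L] [Algebra K L]

/-- `V` as an algebra -/
def valAlg (V : ValuationSubring L) (hK : ∀ c : K, algebraMap K L c ∈ V) : Subalgebra K L :=
  { V.toSubring.toSubsemiring with algebraMap_mem' := hK }

lemma exists_normalized (V : ValuationSubring L) (hK : ∀ c : K, algebraMap K L c ∈ V)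
    {κ : Type u} [Field κ] [Algebra K κ] (red : valAlg V hK →ₐ[K] κ) (v : L ⊗[K] A) (hv : v ≠ 0) :
    ∃ (c : L) (v₁ : valAlg V hK ⊗[K] A), c ≠ 0 ∧
      v = algebraMap L (L ⊗[K] A) c *
        Algebra.TensorProduct.map (valAlg V hK).val (AlgHom.id K A) v₁ ∧
      Algebra.TensorProduct.map red (AlgHom.id K A) v₁ ≠ 0 := by
  classical
  let b := Module.Basis.ofVectorSpace K A
  let e := TensorProduct.equivFinsuppOfBasisRight (M := L) b
  have hne : (e v).support.Nonempty :=
    Finsupp.support_nonempty_iff.2 fun h => hv (e.map_eq_zero_iff.1 h)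
  obtain ⟨j, hj, hmax⟩ := Finset.exists_max_image (e v).support (fun i => V.valuation (e v i)) hne
  have hc : e v j ≠ 0 := Finsupp.mem_support_iff.1 hj
  have hvj : V.valuation (e v j) ≠ 0 := by simp [hc]
  have hd : ∀ i, e v i / e v j ∈ valAlg V hK := fun i => by
    change e v i / e v j ∈ V
    rw [← V.valuation_le_one_iff, map_div₀, div_le_one₀ (zero_lt_iff.2 hvj)]
    by_cases hi : i ∈ (e v).support
    · exact hmax i hi
    · rw [Finsupp.notMem_support_iff.1 hi, map_zero]; exact zero_le'
  refine ⟨e v j, ∑ i ∈ (e v).support, (⟨_, hd i⟩ : valAlg V hK) ⊗ₜ[K] b i, hc, ?_, fun h0 => ?_⟩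
  · have hsum : v = ∑ i ∈ (e v).support, e v i ⊗ₜ[K] b i := by
      conv_lhs => rw [← e.symm_apply_apply v, TensorProduct.equivFinsuppOfBasisRight_symm_apply]
      rfl
    conv_lhs => rw [hsum]
    rw [map_sum, Finset.mul_sum]
    refine Finset.sum_congr rfl fun i _ => ?_
    rw [Algebra.TensorProduct.map_tmul, Algebra.TensorProduct.algebraMap_apply,
      Algebra.TensorProduct.tmul_mul_tmul]
    simp [mul_div_cancel₀ _ hc]
  · have h1 := congrArg (fun q => TensorProduct.equivFinsuppOfBasisRight (M := κ) b q j) h0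
    simp only [map_sum, Algebra.TensorProduct.map_tmul, AlgHom.coe_id, id_eq, map_zero,
      Finsupp.coe_zero, Pi.zero_apply, Finsupp.finsetSum_apply,
      TensorProduct.equivFinsuppOfBasisRight_apply_tmul_apply, Module.Basis.repr_self] at h1
    rw [Finset.sum_eq_single_of_mem j hj (fun i _ hij => by simp [hij])] at h1
    simp only [Finsupp.single_eq_same, one_smul] at h1
    have h2 : (⟨_, hd j⟩ : valAlg V hK) = 1 := Subtype.ext (div_self hc)
    rw [h2, map_one] at h1
    exact one_ne_zero h1

/-- values of a unit of `L ⊗ A` at two rational points differ by a constant -/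
theorem ev_div_mem [IsAlgClosed K] (hsep : Separated K A) {v : L ⊗[K] A} (hv : IsUnit v)
    (φ φ' : A →ₐ[K] K) : ∃ c : K, ev L φ' v = algebraMap K L c * ev L φ v := by
  suffices h : ev L φ' v / ev L φ v ∈ Set.range (algebraMap K L) by
    obtain ⟨c, hc⟩ := h
    exact ⟨c, by rw [hc, div_mul_cancel₀ _ (hv.map (ev L φ)).ne_zero]⟩
  refine mem_range_of_forall_valuationSubring _ fun V hK => ?_
  obtain ⟨v', hvv'⟩ := hv.exists_right_inv
  haveI : Nontrivial (L ⊗[K] A) := (ev L φ).toRingHom.domain_nontrivial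
  letI : Algebra K V := inferInstanceAs (Algebra K (valAlg V hK))
  let red : valAlg V hK →ₐ[K] IsLocalRing.ResidueField V :=
    { (IsLocalRing.residue V : V →+* IsLocalRing.ResidueField V) with commutes' := fun _ => rfl }
  obtain ⟨c, v₁, hc, hv₁, hr₁⟩ := exists_normalized V hK red v (left_ne_zero_of_mul_eq_one hvv')
  obtain ⟨c', v₁', hc', hv₁', hr₁'⟩ := exists_normalized V hK red v' (right_ne_zero_of_mul_eq_one hvv')
  set ι := Algebra.TensorProduct.map (valAlg V hK).val (AlgHom.id K A) with hι
  have hι_inj : Function.Injective ι :=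
    Module.Flat.rTensor_preserves_injective_linearMap (M := A) (valAlg V hK).val.toLinearMap
      Subtype.val_injective
  have hevL : ∀ (d : L) (ψ : A →ₐ[K] K), ev L ψ (algebraMap L (L ⊗[K] A) d) = d := fun d ψ => by
    rw [Algebra.TensorProduct.algebraMap_apply]
    simp
  have hone : c * c' * ((ev (valAlg V hK) φ v₁ * ev (valAlg V hK) φ v₁' : valAlg V hK) : L) = 1 := by
    have := congrArg (ev L φ) hvv'
    rw [map_mul, map_one, hv₁, hv₁', map_mul, map_mul, hevL, hevL, ev_comp, ev_comp] at this
    rw [← this]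
    simp only [Subalgebra.coe_mul, Subalgebra.coe_val]
    ring
  set e := ev (valAlg V hK) φ v₁ * ev (valAlg V hK) φ v₁' with he
  have hprod : v₁ * v₁' = algebraMap (valAlg V hK) _ e := by
    apply hι_inj
    have h1 : algebraMap L (L ⊗[K] A) (c * c') * ι (v₁ * v₁') = 1 := by
      rw [map_mul, map_mul, ← hvv', hv₁, hv₁']; ring
    have h2 : algebraMap L (L ⊗[K] A) (e : L) * algebraMap L (L ⊗[K] A) (c * c') = 1 := by
      rw [← map_mul, mul_comm (e : L), hone, map_one]
    have h3 : ι (algebraMap (valAlg V hK) _ e) = algebraMap L (L ⊗[K] A) (e : L) := by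
      simp [hι, Algebra.TensorProduct.algebraMap_apply]
    rw [h3]
    calc ι (v₁ * v₁') = (algebraMap L (L ⊗[K] A) (e : L) * algebraMap L (L ⊗[K] A) (c * c')) *
          ι (v₁ * v₁') := by rw [h2, one_mul]
      _ = _ := by rw [mul_assoc, h1, mul_one]
  have heu : IsUnit (show V from e) := by
    by_contra hnu
    have hz : red e = 0 := (IsLocalRing.residue_eq_zero_iff (R := V) _).2 ((IsLocalRing.mem_maximalIdeal (R := V) _).2 hnu)
    refine tensor_mul_ne_zero hsep _ hr₁ hr₁' ?_
    rw [← map_mul, hprod, Algebra.TensorProduct.algebraMap_apply, Algebra.TensorProduct.map_tmul]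
    simp [hz]
  obtain ⟨f, hf⟩ := (isUnit_of_mul_isUnit_left
    (show IsUnit ((show V from ev (valAlg V hK) φ v₁) * (show V from ev (valAlg V hK) φ v₁')) from heu)).exists_right_inv
  have hfL : (ev (valAlg V hK) φ v₁ : L) * (f : L) = 1 := congrArg Subtype.val hf
  rw [hv₁, map_mul, map_mul, hevL, hevL, ev_comp, ev_comp, mul_div_mul_left _ _ hc,
    div_eq_mul_inv, show ((valAlg V hK).val (ev (valAlg V hK) φ v₁))⁻¹ = (f : L) from
      inv_eq_of_mul_eq_one_right hfL]
  exact V.toSubring.mul_mem (ev (valAlg V hK) φ' v₁).2 f.2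

end key

/-- cross relation for the values of a unit on a product -/
theorem cross_relation [IsAlgClosed K] [IsDomain A] (hsep : Separated K A) {C : Type u} [CommRing C]
    [IsDomain C] [Algebra K C] {w : C ⊗[K] A} (hw : IsUnit w) (φ φ' : A →ₐ[K] K) (ψ ψ' : C →ₐ[K] K) :
    ψ (ev C φ w) * ψ' (ev C φ' w) = ψ' (ev C φ w) * ψ (ev C φ' w) := by
  let ι := IsScalarTower.toAlgHom K C (FractionRing C)
  obtain ⟨c, hc⟩ := ev_div_mem hsep (hw.map (Algebra.TensorProduct.map ι (AlgHom.id K A))) φ φ'
  rw [ev_comp, ev_comp, ← ι.commutes c, ← map_mul] at hc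
  have h := IsFractionRing.injective C (FractionRing C) hc
  rw [h, map_mul, map_mul, AlgHom.commutes, AlgHom.commutes, Algebra.algebraMap_self, RingHom.id_apply]
  ring

end Groth.L28.Units
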