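import Mathlib.Topology.JacobsonSpace
import Mathlib.Topology.NoetherianSpace
import Mathlib.Topology.Sober
import Mathlib.Topology.Connected.Clopen

/-!
# A relation on closed points spreading over a connected space
-/

namespace Groth.L28.Units

open TopologicalSpace

/-- In a connected noetherian sober Jacobson space, a transitive relation holding for any
two closed specializations of a common point holds for all closed points. -/
theorem rel_of_connected {X : Type*} [TopologicalSpace X] [NoetherianSpace X] [ConnectedSpace X]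
    [JacobsonSpace X] [QuasiSober X] (r : X → X → Prop)
    (htrans : ∀ z z' z'', r z z' → r z' z'' → r z z'')
    (hloc : ∀ η z z', z ∈ closedPoints X → z' ∈ closedPoints X → η ⤳ z → η ⤳ z' → r z z')
    {z z' : X} (hz : z ∈ closedPoints X) (hz' : z' ∈ closedPoints X) : r z z' := by
  classical
  let S : Set X := {p | ∃ q, q ∈ closedPoints X ∧ p ⤳ q ∧ r z q}
  have hex : ∀ p : X, ∃ q ∈ closedPoints X, p ⤳ q := fun p => by
    obtain ⟨q, hq, hqc⟩ := nonempty_inter_closedPoints (Z := closure {p})
      ⟨p, subset_closure rfl⟩ isClosed_closure.isLocallyClosed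
    exact ⟨q, hqc, specializes_iff_mem_closure.2 hq⟩
  -- membership in `S` can be tested at any closed specialization
  have hiff : ∀ p q, q ∈ closedPoints X → p ⤳ q → (p ∈ S ↔ r z q) := fun p q hq hpq =>
    ⟨fun ⟨q', hq', hpq', hr⟩ => htrans _ _ _ hr (hloc p q' q hq' hq hpq' hpq),
      fun hr => ⟨q, hq, hpq, hr⟩⟩
  have hsp : ∀ p p', p ⤳ p' → (p ∈ S ↔ p' ∈ S) := fun p p' h => by
    obtain ⟨q, hq, hq'⟩ := hex p'
    rw [hiff p q hq (h.trans hq'), hiff p' q hq hq']
  have hsat : ∀ T : Set X, (∀ p p', p ⤳ p' → (p ∈ T ↔ p' ∈ T)) → IsClosed T := fun T hT => by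
    have h : T = ⋃ C ∈ {C ∈ irreducibleComponents X | C ⊆ T}, C := by
      ext p
      simp only [Set.mem_iUnion, Set.mem_setOf_eq, exists_prop]
      refine ⟨fun hp => ⟨irreducibleComponent p,
        ⟨irreducibleComponent_mem_irreducibleComponents p, fun p' hp' => ?_⟩,
        mem_irreducibleComponent⟩, fun ⟨C, hC, hpC⟩ => hC.2 hpC⟩
      have hirr : IsIrreducible (irreducibleComponent p) := isIrreducible_irreducibleComponent
      have hg := hirr.isGenericPoint_genericPoint isClosed_irreducibleComponent
      exact (hT _ _ (hg.specializes hp')).1 ((hT _ _ (hg.specializes mem_irreducibleComponent)).2 hp)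
    rw [h]
    exact (NoetherianSpace.finite_irreducibleComponents.subset fun C hC => hC.1).isClosed_biUnion
      fun C hC => isClosed_of_mem_irreducibleComponents C hC.1
  have hcl : IsClopen S :=
    ⟨hsat S hsp, isClosed_compl_iff.1 (hsat Sᶜ fun p p' h => (hsp p p' h).not)⟩
  have hzS : z ∈ S := ⟨z, hz, specializes_rfl, hloc z z z hz hz specializes_rfl specializes_rfl⟩
  have hz'S : z' ∈ S := (hcl.eq_univ ⟨z, hzS⟩) ▸ Set.mem_univ z'
  exact (hiff z' z' hz' specializes_rfl).1 hz'S

end Groth.L28.Units
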