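import Groth.Prelude.Def_GmPts
import Groth.Agent.L28.Units.Alg
import Groth.Agent.L28.Units.Chain
import Mathlib.AlgebraicGeometry.AlgClosed.Basic
import Mathlib.AlgebraicGeometry.Noetherian
import Mathlib.AlgebraicGeometry.Pullbacks
import Mathlib.AlgebraicGeometry.Geometrically.Connected
import Mathlib.AlgebraicGeometry.Geometrically.Reduced
import Mathlib.AlgebraicGeometry.Morphisms.Flat
import Mathlib.AlgebraicGeometry.Morphisms.UniversallyOpen
import Mathlib.FieldTheory.IsAlgClosed.AlgebraicClosure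

/-!
# Values of a unit on a product at geometric points
-/

universe u

open CategoryTheory CategoryTheory.Limits MonoidalCategory CartesianMonoidalCategory MonObj AlgebraicGeometry
open scoped TensorProduct

namespace Groth.L28.Units

variable {k K : Type u} [Field k] [Field K] {σ : Spec (CommRingCat.of K) ⟶ Spec (CommRingCat.of k)}
  {X Y : Over (Spec (CommRingCat.of k))}

/-- value at a pair of `K`-points -/
noncomputable def val (u : X ⊗ Y ⟶ Red.Gm (Spec (CommRingCat.of k)))
    (x : Over.mk σ ⟶ X) (y : Over.mk σ ⟶ Y) : K :=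
  (Scheme.ΓSpecIso (CommRingCat.of K)).hom (Red.gmFn (lift x y ≫ u))

lemma specMap_algHom {A B : Type u} [CommRing A] [Algebra K A] [CommRing B] [Algebra K B] (f : A →ₐ[K] B) :
    Spec.map (CommRingCat.ofHom f.toRingHom) ≫ Spec.map (CommRingCat.ofHom (algebraMap K A)) =
      Spec.map (CommRingCat.ofHom (algebraMap K B)) := by
  rw [← Spec.map_comp, ← CommRingCat.ofHom_comp]
  congr 2
  exact RingHom.ext f.commutes

variable {u : X ⊗ Y ⟶ Red.Gm (Spec (CommRingCat.of k))}

lemma val_ne_zero (x : Over.mk σ ⟶ X) (y : Over.mk σ ⟶ Y) : val u x y ≠ 0 :=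
  ((GmPts.isUnit_gmFn (lift x y ≫ u)).map
    (Scheme.ΓSpecIso (CommRingCat.of K)).hom.hom).ne_zero

/-- the cross relation -/
def Q (u : X ⊗ Y ⟶ Red.Gm (Spec (CommRingCat.of k))) (x x' : Over.mk σ ⟶ X) (y y' : Over.mk σ ⟶ Y) : Prop :=
  val u x y * val u x' y' = val u x y' * val u x' y

lemma Q.trans_left {x x' x'' : Over.mk σ ⟶ X} {y y' : Over.mk σ ⟶ Y} (h : Q u x x' y y')
    (h' : Q u x' x'' y y') : Q u x x'' y y' := by
  unfold Q at *
  apply mul_right_cancel₀ (mul_ne_zero (val_ne_zero (u := u) x' y) (val_ne_zero (u := u) x' y'))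
  linear_combination (val u x'' y' * val u x' y) * h + (val u x y' * val u x' y) * h'

lemma Q.swap {x x' : Over.mk σ ⟶ X} {y y' : Over.mk σ ⟶ Y} (h : Q u x x' y y') : Q u x' x y' y := by
  unfold Q at *
  linear_combination h

lemma Q.trans_right {x x' : Over.mk σ ⟶ X} {y y' y'' : Over.mk σ ⟶ Y} (h : Q u x x' y y')
    (h' : Q u x x' y' y'') : Q u x x' y y'' := by
  unfold Q at *
  apply mul_right_cancel₀ (mul_ne_zero (val_ne_zero (u := u) x y') (val_ne_zero (u := u) x' y'))
  linear_combination (val u x y' * val u x' y'') * h + (val u x y' * val u x' y) * h'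

section chart

variable [IsAlgClosed K] {A C : Type u} [CommRing A] [IsDomain A] [Algebra K A] [Algebra.FiniteType K A]
  [CommRing C] [IsDomain C] [Algebra K C]
  (a : Spec (CommRingCat.of A) ⟶ X.left)
  (ha : a ≫ X.hom = Spec.map (CommRingCat.ofHom (algebraMap K A)) ≫ σ)
  (c : Spec (CommRingCat.of C) ⟶ Y.left)
  (hc : c ≫ Y.hom = Spec.map (CommRingCat.ofHom (algebraMap K C)) ≫ σ)

/-- the point of `X` given by a `K`-point of `Spec A` -/
noncomputable def chartPt (φ : A →ₐ[K] K) : Over.mk σ ⟶ X :=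
  Over.homMk (Spec.map (CommRingCat.ofHom φ.toRingHom) ≫ a) (by
    rw [Category.assoc, ha, ← Category.assoc, specMap_algHom, Algebra.algebraMap_self]
    simp)

theorem Q_chart (u : X ⊗ Y ⟶ Red.Gm (Spec (CommRingCat.of k))) (φ φ' : A →ₐ[K] K) (ψ ψ' : C →ₐ[K] K) :
    Q u (chartPt a ha φ) (chartPt a ha φ') (chartPt c hc ψ) (chartPt c hc ψ') := by
  let iR : A →ₐ[K] C ⊗[K] A := Algebra.TensorProduct.includeRight
  let iL : C →ₐ[K] C ⊗[K] A := Algebra.TensorProduct.includeLeft
  let TS : Over (Spec (CommRingCat.of k)) :=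
    Over.mk (Spec.map (CommRingCat.ofHom (algebraMap K (C ⊗[K] A))) ≫ σ)
  let pA : TS ⟶ X := Over.homMk (Spec.map (CommRingCat.ofHom iR.toRingHom) ≫ a) (by
    rw [Category.assoc, ha, ← Category.assoc, specMap_algHom]; rfl)
  let pC : TS ⟶ Y := Over.homMk (Spec.map (CommRingCat.ofHom iL.toRingHom) ≫ c) (by
    rw [Category.assoc, hc, ← Category.assoc, specMap_algHom]; rfl)
  let w : C ⊗[K] A := (Scheme.ΓSpecIso (CommRingCat.of (C ⊗[K] A))).hom (Red.gmFn (lift pA pC ≫ u))
  have hw : IsUnit w := (GmPts.isUnit_gmFn (lift pA pC ≫ u)).map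
    (Scheme.ΓSpecIso (CommRingCat.of (C ⊗[K] A))).hom.hom
  have key : ∀ (φ : A →ₐ[K] K) (ψ : C →ₐ[K] K),
      val u (chartPt a ha φ) (chartPt c hc ψ) = ψ (ev C φ w) := by
    intro φ ψ
    let g : C ⊗[K] A →ₐ[K] K := ψ.comp (ev C φ)
    let γ : Over.mk σ ⟶ TS := Over.homMk (Spec.map (CommRingCat.ofHom g.toRingHom)) (by
      simp only [TS, Over.mk_hom]
      rw [← Category.assoc, specMap_algHom, Algebra.algebraMap_self]
      simp)
    have h1 : γ ≫ pA = chartPt a ha φ := by
      ext1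
      simp only [Over.comp_left, γ, pA, chartPt, Over.homMk_left]
      rw [← Category.assoc, ← Spec.map_comp, ← CommRingCat.ofHom_comp]
      congr 3
      ext z
      simp [g, iR]
    have h2 : γ ≫ pC = chartPt c hc ψ := by
      ext1
      simp only [Over.comp_left, γ, pC, chartPt, Over.homMk_left]
      rw [← Category.assoc, ← Spec.map_comp, ← CommRingCat.ofHom_comp]
      congr 3
      ext z
      simp [g, iL]
    rw [val, ← h1, ← h2, ← comp_lift, Category.assoc, GmPts.gmFn_comp]
    exact congrArg (fun f => f.hom (Red.gmFn (lift pA pC ≫ u)))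
      (Scheme.ΓSpecIso_naturality (CommRingCat.ofHom g.toRingHom))
  unfold Q
  rw [key φ ψ, key φ' ψ', key φ ψ', key φ' ψ]
  exact cross_relation separated_of_finiteType hw φ φ' ψ ψ'

end chart

section proper

variable [IsAlgClosed K] (σ)

/-- the base change -/
noncomputable abbrev bc (X : Over (Spec (CommRingCat.of k))) : Scheme.{u} := pullback X.hom σ

variable (X) [LocallyOfFiniteType X.hom]

/-- the point of `X` under a closed point of `X_K` -/
noncomputable def xpt (z : ↥(bc σ X)) (hz : IsClosed {z}) : Over.mk σ ⟶ X :=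
  Over.homMk (pointOfClosedPoint (pullback.snd X.hom σ) z hz ≫ pullback.fst X.hom σ) (by
    rw [Category.assoc, pullback.condition, pointOfClosedPoint_comp_assoc]
    rfl)

lemma exists_xpt (x : Over.mk σ ⟶ X) : ∃ z hz, xpt σ X z hz = x := by
  let s : Spec (CommRingCat.of K) ⟶ bc σ X := pullback.lift x.left (𝟙 _) (by
    rw [Category.id_comp]; exact Over.w x)
  let z := pointEquivClosedPoint (pullback.snd X.hom σ) ⟨s, pullback.lift_snd _ _ _⟩
  refine ⟨z.1, z.2, Over.OverMorphism.ext ?_⟩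
  change pointOfClosedPoint _ _ _ ≫ _ = _
  rw [show pointOfClosedPoint (pullback.snd X.hom σ) z.1 z.2 = s from
    congrArg Subtype.val ((pointEquivClosedPoint (pullback.snd X.hom σ)).left_inv
      ⟨s, pullback.lift_snd _ _ _⟩)]
  exact pullback.lift_fst _ _ _

/-- a chart: an integral affine of finite type containing given closed points -/
lemma exists_chart {g₀ : ↥(bc σ X)} {V : (bc σ X).Opens} (hV : IsAffineOpen V) (hg₀ : g₀ ∈ V) :
    ∃ (A : Type u) (_ : CommRing A) (_ : IsDomain A) (_ : Algebra K A) (_ : Algebra.FiniteType K A)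
      (a : Spec (CommRingCat.of A) ⟶ X.left)
      (ha : a ≫ X.hom = Spec.map (CommRingCat.ofHom (algebraMap K A)) ≫ σ),
      ∀ (z : ↥(bc σ X)) (hz : IsClosed {z}), z ∈ V → g₀ ⤳ z →
        ∃ φ : A →ₐ[K] K, chartPt a ha φ = xpt σ X z hz := by
  let snd := pullback.snd X.hom σ
  let B : Type u := Γ(bc σ X, V)
  let p : Ideal B := (hV.primeIdealOf ⟨g₀, hg₀⟩).asIdeal
  let mk : CommRingCat.of B ⟶ CommRingCat.of (B ⧸ p) := CommRingCat.ofHom (Ideal.Quotient.mk p)
  let a' : Spec (CommRingCat.of (B ⧸ p)) ⟶ bc σ X := Spec.map mk ≫ hV.fromSpec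
  let alg : CommRingCat.of K ⟶ CommRingCat.of (B ⧸ p) := Spec.preimage (a' ≫ snd)
  letI : Algebra K (B ⧸ p) := alg.hom.toAlgebra
  have halg : Spec.map (CommRingCat.ofHom (algebraMap K (B ⧸ p))) = a' ≫ snd := Spec.map_preimage _
  haveI : IsClosedImmersion (Spec.map mk) :=
    IsClosedImmersion.spec_of_surjective _ Ideal.Quotient.mk_surjective
  haveI hlft : LocallyOfFiniteType (a' ≫ snd) := inferInstance
  haveI : Algebra.FiniteType K (B ⧸ p) := by
    rw [← halg, HasRingHomProperty.Spec_iff (P := @LocallyOfFiniteType)] at hlft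
    exact hlft
  refine ⟨B ⧸ p, inferInstance, inferInstance, inferInstance, inferInstance,
    a' ≫ pullback.fst X.hom σ, by rw [Category.assoc, pullback.condition, halg]; simp only [snd, Category.assoc],
    fun z hz hzV hg₀z => ?_⟩
  -- `z` lies in the range of `a'`
  have hle : hV.primeIdealOf ⟨g₀, hg₀⟩ ⤳ hV.primeIdealOf ⟨z, hzV⟩ :=
    hg₀z |> (fun h => (subtype_specializes_iff (x := (⟨g₀, hg₀⟩ : V)) (y := ⟨z, hzV⟩)).2 h) |>
      (fun h => h.map hV.isoSpec.hom.continuous)
  obtain ⟨q, hq⟩ : ∃ q : ↥(Spec (CommRingCat.of (B ⧸ p))), Spec.map mk q = hV.primeIdealOf ⟨z, hzV⟩ := by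
    change hV.primeIdealOf ⟨z, hzV⟩ ∈ Set.range (PrimeSpectrum.comap (Ideal.Quotient.mk p))
    rw [range_comap_of_surjective _ _ Ideal.Quotient.mk_surjective, Ideal.mk_ker,
      PrimeSpectrum.mem_zeroLocus, SetLike.coe_subset_coe]
    exact (PrimeSpectrum.le_iff_specializes _ _).2 hle
  have haq : a' q = z := by
    change hV.fromSpec (Spec.map mk q) = z
    rw [show Spec.map mk q = hV.primeIdealOf ⟨z, hzV⟩ from hq, hV.fromSpec_primeIdealOf]
  have hinj : Function.Injective a' := hV.fromSpec.isOpenEmbedding.injective.comp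
    (Spec.map mk).isClosedEmbedding.injective
  have hqc : IsClosed {q} := by
    rw [show {q} = a' ⁻¹' {z} from Set.ext fun q' =>
      ⟨fun h => by rw [Set.mem_singleton_iff.1 h]; exact haq, fun h => hinj (h.trans haq.symm)⟩]
    exact hz.preimage a'.continuous
  let φ₀ : CommRingCat.of (B ⧸ p) ⟶ CommRingCat.of K :=
    Spec.preimage (pointOfClosedPoint (a' ≫ snd) q hqc)
  have hcomm : CommRingCat.ofHom (algebraMap K (B ⧸ p)) ≫ φ₀ = 𝟙 _ := by
    apply Spec.map_injective
    rw [Spec.map_comp, Spec.map_preimage, halg, pointOfClosedPoint_comp, Spec.map_id]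
  refine ⟨{ φ₀.hom with commutes' := fun x => congrArg (fun f : CommRingCat.of K ⟶ CommRingCat.of K => f.hom x) hcomm },
    Over.OverMorphism.ext ?_⟩
  change Spec.map φ₀ ≫ a' ≫ pullback.fst X.hom σ = pointOfClosedPoint snd z hz ≫ pullback.fst X.hom σ
  rw [Spec.map_preimage, ← Category.assoc]
  congr 1
  refine ext_of_apply_closedPoint_eq snd ?_ (pointOfClosedPoint_comp _ _ _) ?_
  · rw [Category.assoc]; exact pointOfClosedPoint_comp (a' ≫ snd) q hqc
  · refine Eq.trans ?_ (pointOfClosedPoint_apply snd z hz _).symm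
    exact (congrArg a' (pointOfClosedPoint_apply (a' ≫ snd) q hqc _)).trans haq

end proper

end Groth.L28.Units
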