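import Groth.Agent.L28.Units.Cross
import Mathlib.AlgebraicGeometry.Properties

/-!
# A unit on a product which is trivial on the axes is trivial
-/

universe u

open CategoryTheory CategoryTheory.Limits MonoidalCategory CartesianMonoidalCategory MonObj AlgebraicGeometry
open scoped TensorProduct

namespace Groth.L28.Units

variable {k K : Type u} [Field k] [Field K] [IsAlgClosed K]
  {σ : Spec (CommRingCat.of K) ⟶ Spec (CommRingCat.of k)}
  {X Y : Over (Spec (CommRingCat.of k))}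
  [LocallyOfFiniteType X.hom] [LocallyOfFiniteType Y.hom]
  (u : X ⊗ Y ⟶ Red.Gm (Spec (CommRingCat.of k)))

/-- the closed points of `X_K` -/
abbrev Pt (σ : Spec (CommRingCat.of K) ⟶ Spec (CommRingCat.of k)) (X : Over (Spec (CommRingCat.of k))) : Type u :=
  {z : ↥(bc σ X) // IsClosed {z}}

lemma Q_of_generization_of_affine {V : (bc σ X).Opens} (hV : IsAffineOpen V) {W : (bc σ Y).Opens}
    (hW : IsAffineOpen W) {a : ↥(bc σ X)} (z z' : Pt σ X) (hzV : z.1 ∈ V) (hz'V : z'.1 ∈ V)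
    (ha : a ⤳ z.1) (ha' : a ⤳ z'.1) {b : ↥(bc σ Y)} (w w' : Pt σ Y) (hwW : w.1 ∈ W) (hw'W : w'.1 ∈ W)
    (hb : b ⤳ w.1) (hb' : b ⤳ w'.1) :
    Q u (xpt σ X z.1 z.2) (xpt σ X z'.1 z'.2) (xpt σ Y w.1 w.2) (xpt σ Y w'.1 w'.2) := by
  obtain ⟨A, iA1, iA2, iA3, iA4, f, hf, hA⟩ := exists_chart σ X hV (ha.mem_open V.isOpen hzV)
  obtain ⟨C, iC1, iC2, iC3, iC4, g, hg, hC⟩ := exists_chart σ Y hW (hb.mem_open W.isOpen hwW)
  obtain ⟨φ, hφ⟩ := hA _ z.2 hzV ha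
  obtain ⟨φ', hφ'⟩ := hA _ z'.2 hz'V ha'
  obtain ⟨ψ, hψ⟩ := hC _ w.2 hwW hb
  obtain ⟨ψ', hψ'⟩ := hC _ w'.2 hw'W hb'
  rw [← hφ, ← hφ', ← hψ, ← hψ']
  exact Q_chart f hf g hg u φ φ' ψ ψ'

/-- two closed specializations of a point are linked by a third one through affine opens -/
lemma exists_link {Z : Scheme.{u}} [JacobsonSpace ↥Z] {a z z' : ↥Z} (ha : a ⤳ z) (ha' : a ⤳ z') :
    ∃ (V V' : Z.Opens) (_ : IsAffineOpen V) (_ : IsAffineOpen V') (z'' : ↥Z),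
      z ∈ V ∧ z' ∈ V' ∧ z'' ∈ V ∧ z'' ∈ V' ∧ IsClosed {z''} ∧ a ⤳ z'' := by
  obtain ⟨V, hV, hzV, -⟩ := exists_isAffineOpen_mem_and_subset (X := Z) (x := z) (U := ⊤) trivial
  obtain ⟨V', hV', hz'V, -⟩ := exists_isAffineOpen_mem_and_subset (X := Z) (x := z') (U := ⊤) trivial
  obtain ⟨z'', ⟨⟨h1, h2⟩, h3⟩, h4⟩ := nonempty_inter_closedPoints
    (Z := ((V : Set ↥Z) ∩ V') ∩ closure {a})
    ⟨a, ⟨ha.mem_open V.isOpen hzV, ha'.mem_open V'.isOpen hz'V⟩, subset_closure rfl⟩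
    ((V.isOpen.inter V'.isOpen).isLocallyClosed.inter isClosed_closure.isLocallyClosed)
  exact ⟨V, V', hV, hV', z'', hzV, hz'V, h1, h2, h4, specializes_iff_mem_closure.2 h3⟩

lemma Q_of_generization {a : ↥(bc σ X)} (z z' : Pt σ X) (ha : a ⤳ z.1) (ha' : a ⤳ z'.1)
    {b : ↥(bc σ Y)} (w w' : Pt σ Y) (hb : b ⤳ w.1) (hb' : b ⤳ w'.1) :
    Q u (xpt σ X z.1 z.2) (xpt σ X z'.1 z'.2) (xpt σ Y w.1 w.2) (xpt σ Y w'.1 w'.2) := by
  haveI : JacobsonSpace ↥(bc σ X) := LocallyOfFiniteType.jacobsonSpace (pullback.snd X.hom σ)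
  haveI : JacobsonSpace ↥(bc σ Y) := LocallyOfFiniteType.jacobsonSpace (pullback.snd Y.hom σ)
  obtain ⟨V, V', hV, hV', z'', hzV, hz'V, h1, h2, hz'', ha''⟩ := exists_link ha ha'
  obtain ⟨W, W', hW, hW', w'', hwW, hw'W, g1, g2, hw'', hb''⟩ := exists_link hb hb'
  have step : ∀ {W : (bc σ Y).Opens} (_ : IsAffineOpen W) (p q : Pt σ Y), p.1 ∈ W → q.1 ∈ W →
      b ⤳ p.1 → b ⤳ q.1 →
      Q u (xpt σ X z.1 z.2) (xpt σ X z'.1 z'.2) (xpt σ Y p.1 p.2) (xpt σ Y q.1 q.2) :=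
    fun hW p q hp hq hbp hbq =>
      (Q_of_generization_of_affine u hV hW z ⟨z'', hz''⟩ hzV h1 ha ha'' p q hp hq hbp hbq).trans_left
        (Q_of_generization_of_affine u hV' hW ⟨z'', hz''⟩ z' h2 hz'V ha'' ha' p q hp hq hbp hbq)
  exact (step hW w ⟨w'', hw''⟩ hwW g1 hb hb'').trans_right (step hW' ⟨w'', hw''⟩ w' g2 hw'W hb'' hb')

variable [QuasiCompact X.hom] [QuasiCompact Y.hom]

theorem Q_all [ConnectedSpace ↥(bc σ X)] [ConnectedSpace ↥(bc σ Y)] (x x' : Over.mk σ ⟶ X)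
    (y y' : Over.mk σ ⟶ Y) : Q u x x' y y' := by
  haveI : JacobsonSpace ↥(bc σ X) := LocallyOfFiniteType.jacobsonSpace (pullback.snd X.hom σ)
  haveI : JacobsonSpace ↥(bc σ Y) := LocallyOfFiniteType.jacobsonSpace (pullback.snd Y.hom σ)
  haveI : IsNoetherian (bc σ X) :=
    { LocallyOfFiniteType.isLocallyNoetherian (pullback.snd X.hom σ), QuasiCompact.compactSpace_of_compactSpace (pullback.snd X.hom σ) with }
  haveI : IsNoetherian (bc σ Y) :=
    { LocallyOfFiniteType.isLocallyNoetherian (pullback.snd Y.hom σ), QuasiCompact.compactSpace_of_compactSpace (pullback.snd Y.hom σ) with }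
  obtain ⟨z, hz, rfl⟩ := exists_xpt σ X x
  obtain ⟨z', hz', rfl⟩ := exists_xpt σ X x'
  obtain ⟨w, hw, rfl⟩ := exists_xpt σ Y y
  obtain ⟨w', hw', rfl⟩ := exists_xpt σ Y y'
  let rY (a b : ↥(bc σ X)) (ha : IsClosed {a}) (hb : IsClosed {b}) (p q : ↥(bc σ Y)) : Prop :=
    ∀ hp hq, Q u (xpt σ X a ha) (xpt σ X b hb) (xpt σ Y p hp) (xpt σ Y q hq)
  have hY : ∀ (c : ↥(bc σ X)) a b ha hb, c ⤳ a → c ⤳ b → rY a b ha hb w w' := fun c a b ha hb h h' =>
    rel_of_connected (fun p q => IsClosed {p} ∧ IsClosed {q} ∧ rY a b ha hb p q)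
      (fun p q q' hpq hqq' => ⟨hpq.1, hqq'.2.1, fun hp hq' =>
        (hpq.2.2 hp hpq.2.1).trans_right (hqq'.2.2 hpq.2.1 hq')⟩)
      (fun d p q hp hq hd hd' => ⟨hp, hq, fun hp hq =>
        Q_of_generization u ⟨a, ha⟩ ⟨b, hb⟩ h h' ⟨p, hp⟩ ⟨q, hq⟩ hd hd'⟩) hw hw' |>.2.2
  have hX := rel_of_connected (fun a b => IsClosed {a} ∧ IsClosed {b} ∧
      ∀ ha hb, Q u (xpt σ X a ha) (xpt σ X b hb) (xpt σ Y w hw) (xpt σ Y w' hw'))
    (fun a b b' hab hbb' => ⟨hab.1, hbb'.2.1, fun ha hb' =>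
      (hab.2.2 ha hab.2.1).trans_left (hbb'.2.2 hab.2.1 hb')⟩)
    (fun c a b ha hb h h' => ⟨ha, hb, fun ha hb => hY c a b ha hb h h' hw hw'⟩) hz hz'
  exact hX.2.2 hz hz'

omit [LocallyOfFiniteType X.hom] [LocallyOfFiniteType Y.hom] [QuasiCompact X.hom] [QuasiCompact Y.hom] in
/-- a global function on a reduced finite type scheme over `k` vanishing at all `K`-points is zero -/
lemma eq_zero_of_forall_pt {P : Over (Spec (CommRingCat.of k))} [LocallyOfFiniteType P.hom] [IsReduced P.left]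
    [Surjective σ] (s : Γ(P.left, ⊤)) (hs : ∀ τ : Over.mk σ ⟶ P, τ.left.appTop s = 0) : s = 0 := by
  haveI : JacobsonSpace ↥P.left := LocallyOfFiniteType.jacobsonSpace P.hom
  haveI : JacobsonSpace ↥(bc σ P) := LocallyOfFiniteType.jacobsonSpace (pullback.snd P.hom σ)
  haveI : Surjective (pullback.fst P.hom σ) := inferInstance
  rw [← basicOpen_eq_bot_iff, ← SetLike.coe_set_eq, TopologicalSpace.Opens.coe_bot]
  by_contra hne
  obtain ⟨p, hp, hpc⟩ := nonempty_inter_closedPoints (Set.nonempty_iff_ne_empty.2 hne)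
    (P.left.basicOpen s).isOpen.isLocallyClosed
  obtain ⟨z, hz, hzc⟩ := nonempty_inter_closedPoints
    (Z := (pullback.fst P.hom σ) ⁻¹' {p})
    ((pullback.fst P.hom σ).surjective p)
    ((IsClosed.preimage (pullback.fst P.hom σ).continuous hpc).isLocallyClosed)
  let τ := xpt σ P z hzc
  have hτ : τ.left (IsLocalRing.closedPoint K) = p := by
    rw [← hz]
    exact congrArg (pullback.fst P.hom σ) (pointOfClosedPoint_apply (pullback.snd P.hom σ) z hzc _)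
  have h2 : (Over.mk σ).left.basicOpen (τ.left.appTop s) = τ.left ⁻¹ᵁ P.left.basicOpen s :=
    (Scheme.preimage_basicOpen_top τ.left s).symm
  rw [hs τ, Scheme.basicOpen_zero] at h2
  have : IsLocalRing.closedPoint K ∈ τ.left ⁻¹ᵁ P.left.basicOpen s := by
    change τ.left (IsLocalRing.closedPoint K) ∈ P.left.basicOpen s
    rw [hτ]; exact hp
  rw [← h2] at this
  exact this

theorem eq_one [Surjective σ] [ConnectedSpace ↥(bc σ X)] [ConnectedSpace ↥(bc σ Y)] [IsReduced (X ⊗ Y).left]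
    (eX : 𝟙_ (Over (Spec (CommRingCat.of k))) ⟶ X) (eY : 𝟙_ (Over (Spec (CommRingCat.of k))) ⟶ Y)
    (huX : lift (𝟙 X) (toUnit X ≫ eY) ≫ u = 1) (huY : lift (toUnit Y ≫ eX) (𝟙 Y) ≫ u = 1) : u = 1 := by
  let x₀ : Over.mk σ ⟶ X := toUnit _ ≫ eX
  let y₀ : Over.mk σ ⟶ Y := toUnit _ ≫ eY
  have hone : ∀ {T : Over (Spec (CommRingCat.of k))} (g : Over.mk σ ⟶ T) {v : T ⟶ Red.Gm _},
      v = 1 → (Scheme.ΓSpecIso (CommRingCat.of K)).hom (Red.gmFn (g ≫ v)) = 1 := fun g v hv => by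
    rw [hv, comp_one, GmPts.gmFn_one]; exact map_one _
  have hX : ∀ x, val u x y₀ = 1 := fun x => by
    have h : lift x y₀ = x ≫ lift (𝟙 X) (toUnit X ≫ eY) := by
      simp [y₀, ← Category.assoc]
    rw [val, h, Category.assoc]; exact hone x huX
  have hY : ∀ y, val u x₀ y = 1 := fun y => by
    have h : lift x₀ y = y ≫ lift (toUnit Y ≫ eX) (𝟙 Y) := by
      simp [x₀, ← Category.assoc]
    rw [val, h, Category.assoc]; exact hone y huY
  haveI : LocallyOfFiniteType (X ⊗ Y).hom := by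
    change LocallyOfFiniteType (pullback.fst X.hom Y.hom ≫ X.hom); infer_instance
  apply GmPts.gmFn_injective
  change Red.gmFn u = Red.gmFn 1
  rw [GmPts.gmFn_one, ← sub_eq_zero]
  refine eq_zero_of_forall_pt (σ := σ) _ fun τ => ?_
  have hq := Q_all u (τ ≫ fst X Y) x₀ (τ ≫ snd X Y) y₀
  unfold Q at hq
  rw [hX, hY, hX, _root_.mul_one, _root_.mul_one, val, ← comp_lift, lift_fst_snd, Category.comp_id] at hq
  have h1 := congrArg (Scheme.ΓSpecIso (CommRingCat.of K)).inv.hom hq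
  erw [map_sub, map_one, ← GmPts.gmFn_comp]
  rw [sub_eq_zero]
  simpa using h1

end Groth.L28.Units
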